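import Groth.Agent.Lib.StabLevi15.Trivial
import Groth.Agent.Lib.BorelFix21.Stabilizer
import Groth.Agent.Lib.BorelFix21.BaseChange
import Groth.Agent.Lib.BorelLam21.Limit
import Groth.Agent.Lib.Semiab15.Finite
import Groth.Agent.Lib.TorPts21.CentralizerRadical
import Groth.Agent.Lib.TorPts21.ConjSep
import Groth.Agent.Lib.TorPts21.CentreFinite
import Groth.Agent.Lib.TorPts21.Sub
import Groth.Agent.Lib.NRGIT21.Stab
import Groth.Agent.Lib.UnipBC21.Basic
import Groth.Agent.Lib.OrbitTop19.Smooth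

/-!
# Stabilisers in a split extension of a torus by a unipotent group
-/

set_option autoImplicit false
set_option linter.style.haveILetI false
set_option maxSynthPendingDepth 3
set_option synthInstance.maxHeartbeats 400000
set_option backward.isDefEq.respectTransparency false
set_option backward.isDefEq.respectTransparency.types false

universe u

open CategoryTheory Limits MonoidalCategory CartesianMonoidalCategory MonObj GrpObj AlgebraicGeometry
open Groth.Agent.DiagGL
open Groth.Agent.NRGIT21 (StabPt)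

noncomputable section

namespace Groth.Agent.SemiStab15

section points

variable {k : Type u} [Field k] [IsAlgClosed k] [CharZero k] {G U T : Over (Spec (CommRingCat.of k))}
  [GrpObj G] [GrpObj U] [GrpObj T] [IsAffine G.left] [Smooth G.hom] [ConnectedSpace G.left]
  (iU : U ⟶ G) [IsMonHom iU] [IsClosedImmersion iU.left] [IsAffine U.left] [Smooth U.hom] [ConnectedSpace U.left]
  (hU : Red.HasNoSubtorus k U) (p : G ⟶ T) [IsMonHom p] (hiU : iU ≫ p = 1)
  (hker : ∀ (W : Over (Spec (CommRingCat.of k))) (g : W ⟶ G), g ≫ p = 1 → ∃ n : W ⟶ U, n ≫ iU = g)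

include hker hU in
/-- A closed subgroup meeting `U` in a finite group maps injectively to `T`. -/
theorem mono_comp_p {H : Over (Spec (CommRingCat.of k))} [GrpObj H] [LocallyOfFiniteType H.hom]
    [QuasiCompact H.hom] (h : H ⟶ G) [IsMonHom h] [Mono h]
    (hfin : ∀ (E : Over (Spec (CommRingCat.of k))) [GrpObj E] (b : E ⟶ H) (n : E ⟶ U) [IsMonHom b]
      [IsMonHom n] [IsClosedImmersion b.left] [Mono n], n ≫ iU = b ≫ h → IsFinite E.hom) :
    Mono (h ≫ p) := by
  haveI : Mono iU := Over.mono_of_mono_left iU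
  let E := pullback h iU
  let b : E ⟶ H := pullback.fst h iU
  let n : E ⟶ U := pullback.snd h iU
  haveI : Mono b := inferInstance
  haveI : Mono n := inferInstance
  have hsq : IsPullback b n h iU := IsPullback.of_hasPullback _ _
  haveI : IsClosedImmersion b.left :=
    MorphismProperty.of_isPullback (P := @IsClosedImmersion) (IsPullback.map (Over.forget _) hsq).flip
      ‹IsClosedImmersion iU.left›
  obtain ⟨gE, hbm⟩ := MTRigid29.exists_grpObj_of_subgroup b
    (fun W x y => ⟨hsq.lift ((x ≫ b) * (y ≫ b)) ((x ≫ n) * (y ≫ n)) (by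
      rw [MonObj.mul_comp, MonObj.mul_comp, Category.assoc, Category.assoc, Category.assoc, Category.assoc, hsq.w]),
      hsq.lift_fst _ _ _⟩)
    ⟨hsq.lift 1 1 (by rw [MonObj.one_comp, MonObj.one_comp]), hsq.lift_fst _ _ _⟩
    (fun W x => ⟨hsq.lift (x ≫ b)⁻¹ (x ≫ n)⁻¹ (by
      rw [GrpObj.inv_comp, GrpObj.inv_comp, Category.assoc, Category.assoc, hsq.w]), hsq.lift_fst _ _ _⟩)
  haveI := hbm
  haveI : IsMonHom n := AttrBorel21.isMonHom_of_forall_mul n fun W x y => (cancel_mono iU).1 (by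
    rw [Category.assoc, ← hsq.w, MonObj.mul_comp, MonObj.mul_comp, Category.assoc, Category.assoc, hsq.w])
  haveI : IsFinite E.hom := hfin E b n hsq.w.symm
  haveI : IsIso E.hom := StabLevi15.isIso_of_finite_subgroup n fun W g L hL hg => StabLevi15.torsionFree U hU g hL hg
  refine ⟨fun {W} x y e => ?_⟩
  obtain ⟨m, hm⟩ := hker W ((x ≫ h) * (y ≫ h)⁻¹) (by
    rw [MonObj.mul_comp, GrpObj.inv_comp, Category.assoc, Category.assoc, e, mul_inv_cancel])
  let w : W ⟶ E := hsq.lift (x * y⁻¹) m (by rw [MonObj.mul_comp, GrpObj.inv_comp, hm])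
  have hw : w = 1 := by
    haveI : IsIso E.hom := inferInstance
    exact Over.OverMorphism.ext ((cancel_mono E.hom).1 ((Over.w w).trans (Over.w (1 : W ⟶ E)).symm))
  have h1 : w ≫ b = x * y⁻¹ := hsq.lift_fst _ _ _
  rw [hw, MonObj.one_comp] at h1
  exact mul_inv_eq_one.1 h1.symm

include hU hiU hker in
/-- An infinite stabiliser meeting `U` trivially gives an infinite stabiliser in a conjugate of `T`. -/
theorem exists_infinite_torus_stab (hT : Red.IsTorus T) (iT : T ⟶ G) [IsMonHom iT] (hsplit : iT ≫ p = 𝟙 T)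
    {X : Over (Spec (CommRingCat.of k))} [IsSeparated X.hom] (a : AlgGrp.Action G X)
    (x : 𝟙_ (Over (Spec (CommRingCat.of k))) ⟶ X)
    (hfree : ∀ n : 𝟙_ (Over (Spec (CommRingCat.of k))) ⟶ U, lift (n ≫ iU) x ≫ a.act = x → n = 1)
    (hinf : ¬ Finite (StabPt a x)) :
    ∃ u : 𝟙_ (Over (Spec (CommRingCat.of k))) ⟶ U,
      ¬ Finite (StabPt (a.restrict iT) (lift (u ≫ iU) x ≫ a.act)) := by
  haveI : Mono iU := Over.mono_of_mono_left iU
  have hgpt : ∀ {W : Over (Spec (CommRingCat.of k))} (hf : Finite (𝟙_ (Over (Spec (CommRingCat.of k))) ⟶ W)),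
      Finite (VecGrp.pt k k ⟶ W) := fun {W} hf =>
    Finite.of_surjective (fun g => TorPts21.gpt g) fun y => TorPts21.exists_gpt y
  obtain ⟨S, gS, iS, hiS, hiSc, hsq⟩ := BorelFix21.exists_stabilizer a x
  haveI := hiS; haveI := hiSc
  haveI : Mono iS := Over.mono_of_mono_left iS
  haveI : IsAffine S.left := isAffine_of_isAffineHom iS.left
  haveI : LocallyOfFiniteType S.hom := by rw [← Over.w iS]; infer_instance
  haveI : QuasiCompact S.hom := inferInstance
  have hstab : ∀ g : 𝟙_ (Over (Spec (CommRingCat.of k))) ⟶ S, lift (g ≫ iS) x ≫ a.act = x := fun g => by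
    have h1 : (g ≫ iS) ≫ a.orbitMap x = x := by
      rw [Category.assoc, hsq.w, ← Category.assoc, toUnit_unique (g ≫ toUnit S) (𝟙 _), Category.id_comp]
    rwa [AlgGrp.Action.comp_orbitMap, toUnit_unique (toUnit _) (𝟙 _), Category.id_comp] at h1
  -- `S` is not finite, so has a nontrivial connected subgroup
  have hnfin : ¬ Finite (𝟙_ (Over (Spec (CommRingCat.of k))) ⟶ S) := fun hf => hinf (by
    refine Finite.of_surjective (fun g => (⟨g ≫ iS, hstab g⟩ : StabPt a x)) fun g => ?_
    exact ⟨hsq.lift g.1 (toUnit _) (by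
      rw [AlgGrp.Action.comp_orbitMap, toUnit_unique (toUnit _) (𝟙 _), Category.id_comp, g.2]),
      Subtype.ext (hsq.lift_fst _ _ _)⟩)
  obtain ⟨B, gB, b, hbm, hbc, hBs, hBconn, hB⟩ : ∃ (B : Over (Spec (CommRingCat.of k))) (_ : GrpObj B) (b : B ⟶ S),
      IsMonHom b ∧ IsClosedImmersion b.left ∧ Smooth B.hom ∧ ConnectedSpace ↥B.left ∧ 𝟙 B ≠ 1 := by
    by_contra hne
    refine hnfin ?_
    haveI : IsFinite S.hom := Semiab15.isFinite_of_subgroups S fun B _ b _ _ _ _ => by
      by_contra h1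
      exact hne ⟨B, inferInstance, b, inferInstance, inferInstance, inferInstance, inferInstance, h1⟩
    letI := InvRing21.gamAlg S
    haveI : Module.Finite k Γ(S.left, ⊤) := by
      rw [← RingHom.finite_algebraMap]
      show (DiagGL.alg S).Finite
      exact RingHom.Finite.comp S.hom.finite_appTop
        (RingHom.Finite.of_surjective _ (Scheme.ΓSpecIso (CommRingCat.of k)).symm.commRingCatIsoToRingEquiv.surjective)
    letI := InvRing21.gamAlg S
    haveI : Finite (VecGrp.pt k k ⟶ S) := Finite.of_injective (fun f => InvRing21.val f) fun f g h => by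
      rw [← InvRing21.ptMap_val f, ← InvRing21.ptMap_val g]
      exact congrArg (fun φ => VecGrp.ptMap φ ≫ InvRing21.uPt S) h
    have hgg' : ∀ g : 𝟙_ (Over (Spec (CommRingCat.of k))) ⟶ S, InvRing21.toPt _ ≫ TorPts21.gpt g = g := fun g => by
      rw [TorPts21.gpt, ← Category.assoc, toUnit_unique (_ ≫ toUnit _) (𝟙 _), Category.id_comp]
    exact Finite.of_injective (fun g => TorPts21.gpt g) fun g g' hgg => by
      rw [← hgg' g, ← hgg' g']
      exact congrArg (InvRing21.toPt _ ≫ ·) hgg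
  haveI := hbm; haveI := hbc; haveI := hBs; haveI := hBconn
  haveI : Mono b := Over.mono_of_mono_left b
  haveI : LocallyOfFiniteType G.hom := inferInstance
  -- the stabiliser maps injectively to the torus
  haveI hSp : Mono (iS ≫ p) := mono_comp_p iU hU p hker iS fun E _ c n _ _ _ _ hn => by
    haveI : IsAffine E.left := isAffine_of_isAffineHom c.left
    haveI : LocallyOfFiniteType E.hom := by rw [← Over.w c]; infer_instance
    haveI : Subsingleton (𝟙_ (Over (Spec (CommRingCat.of k))) ⟶ E) := ⟨fun e e' => by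
      have h1 : ∀ e : 𝟙_ (Over (Spec (CommRingCat.of k))) ⟶ E, e ≫ n = 1 := fun e => hfree _ (by
        rw [Category.assoc, hn, ← Category.assoc]
        exact hstab _)
      rw [← cancel_mono n, h1, h1]⟩
    haveI : Finite ↥E.left := TorPts21.finite_of_finite_pts (hgpt inferInstance)
    haveI : LocallyQuasiFinite E.hom := LocallyQuasiFinite.of_finite_preimage_singleton E.hom fun y => Set.toFinite _
    exact DegRank.isFinite_of_finite E.hom
  obtain ⟨hTl, hTq, -, hTc⟩ := Semiab15.torus_props hT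
  haveI := hTl; haveI := hTq; haveI := hTc
  haveI : IsClosedImmersion (iS ≫ p).left := Semiab15.isClosedImmersion_of_trivial_kernel _
  haveI : IsClosedImmersion (b ≫ iS ≫ p).left := by rw [Over.comp_left]; infer_instance
  have hBt : Red.IsTorus B := BorelLam21.isTorus_of_closed hT (b ≫ iS ≫ p)
  obtain ⟨T₁, _, iT₁, s, hT₁, hs⟩ := TorPts21.exists_maxTorus_ge (b ≫ iS) hBt
  haveI : Mono iT := ⟨fun {W} f g h => by simpa [hsplit] using congrArg (· ≫ p) h⟩
  have hmax : AGF.IsMaxTorus iT := by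
    refine ⟨inferInstance, inferInstance, hT, fun T' _ j _ _ f hT' hf => ?_⟩
    obtain ⟨hT'l, hT'q, -, -⟩ := Semiab15.torus_props hT'
    haveI := hT'l; haveI := hT'q
    haveI : Mono (j ≫ p) := mono_comp_p iU hU p hker j fun E _ c n _ _ _ _ _ => by
      haveI : LocallyOfFiniteType E.hom := by rw [← Over.w c]; infer_instance
      haveI : QuasiCompact E.hom := by rw [← Over.w c]; infer_instance
      refine Semiab15.isFinite_of_subgroups E fun B' _ b' _ _ _ _ => ?_
      haveI : Mono b' := Over.mono_of_mono_left b'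
      haveI : IsClosedImmersion (b' ≫ c).left := by rw [Over.comp_left]; infer_instance
      haveI : IsIso B'.hom := hU B' (b' ≫ n) (BorelLam21.isTorus_of_closed hT' (b' ≫ c))
      exact Over.OverMorphism.ext ((cancel_mono B'.hom).1 ((Over.w _).trans (Over.w (1 : B' ⟶ B')).symm))
    have hfp : f ≫ j ≫ p = 𝟙 T := by rw [reassoc_of% hf, hsplit]
    haveI : IsSplitEpi (j ≫ p) := ⟨⟨f, hfp⟩⟩
    haveI : IsIso (j ≫ p) := isIso_of_mono_of_isSplitEpi _
    exact ⟨j ≫ p, hfp, by rw [← cancel_mono (j ≫ p), Category.assoc, hfp, Category.id_comp, Category.comp_id]⟩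
  obtain ⟨g, f, hf⟩ := TorPts21.exists_conj_maxTorus' hmax hT₁
  -- only the `U`-part of the conjugating element matters
  obtain ⟨u', hu'⟩ := hker _ (g * (g ≫ p ≫ iT)⁻¹) (by
    rw [MonObj.mul_comp, GrpObj.inv_comp, Category.assoc, Category.assoc, hsplit, Category.comp_id, mul_inv_cancel])
  have hg : g = (u' ≫ iU) * (g ≫ p ≫ iT) := by rw [hu', inv_mul_cancel_right]
  have hconj : ∀ β : 𝟙_ (Over (Spec (CommRingCat.of k))) ⟶ B,
      (u' ≫ iU)⁻¹ * (β ≫ b ≫ iS) * (u' ≫ iU) = (β ≫ s ≫ f.inv) ≫ iT := fun β => by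
    letI : CommGroup (𝟙_ (Over (Spec (CommRingCat.of k))) ⟶ T) := Hom.commGroup
    have e1 : β ≫ b ≫ iS = (β ≫ s ≫ f.inv) ≫ AGF.conjBy g iT := by
      rw [← hf, Category.assoc, Category.assoc, Iso.inv_hom_id_assoc, hs]
    rw [e1, TorPts21.comp_conjBy, toUnit_unique (toUnit _) (𝟙 _), Category.id_comp]
    conv_lhs => rw [hg]
    have hc : (g ≫ p ≫ iT) * ((β ≫ s ≫ f.inv) ≫ iT) = ((β ≫ s ≫ f.inv) ≫ iT) * (g ≫ p ≫ iT) := by
      rw [← Category.assoc g p iT, ← MonObj.mul_comp, ← MonObj.mul_comp, mul_comm]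
    calc _ = (g ≫ p ≫ iT) * ((β ≫ s ≫ f.inv) ≫ iT) * (g ≫ p ≫ iT)⁻¹ := by
          simp only [_root_.mul_inv_rev, _root_.mul_assoc, inv_mul_cancel_left, inv_mul_cancel, _root_.mul_one]
      _ = _ := by rw [hc, mul_inv_cancel_right]
  refine ⟨u'⁻¹, fun hfin => ?_⟩
  haveI := hfin
  haveI : IsAffine B.left := isAffine_of_isAffineHom b.left
  let ψ : (𝟙_ (Over (Spec (CommRingCat.of k))) ⟶ B) → StabPt (a.restrict iT) (lift (u'⁻¹ ≫ iU) x ≫ a.act) :=
    fun β => ⟨β ≫ s ≫ f.inv, by
      rw [AlgGrp.Action.lift_restrict_act, ← hconj, GrpObj.inv_comp]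
      rw [← AlgGrpBasic19.act_mul, mul_inv_cancel_right, AlgGrpBasic19.act_mul]
      congr 2
      rw [← Category.assoc β]
      exact hstab _⟩
  haveI : Finite (𝟙_ (Over (Spec (CommRingCat.of k))) ⟶ B) := Finite.of_injective ψ fun β β' h => by
    have h1 : (β ≫ s ≫ f.inv) ≫ iT = (β' ≫ s ≫ f.inv) ≫ iT := congrArg (fun z => z.1 ≫ iT) h
    rw [← hconj, ← hconj, mul_left_inj, mul_right_inj] at h1
    exact (cancel_mono (b ≫ iS)).1 h1
  haveI : Finite (VecGrp.pt k k ⟶ B) := hgpt inferInstance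
  haveI : IsIso B.hom := TorPts21.isTrivialGrp_of_finite_pts
  exact hB (Over.OverMorphism.ext ((cancel_mono B.hom).1 ((Over.w _).trans (Over.w (1 : B ⟶ B)).symm)))

end points

section geometric

variable {k : Type u} [Field k] {Ω : Type u} [Field Ω] (ψ : Spec (CommRingCat.of Ω) ⟶ Spec (CommRingCat.of k))

/-- The underlying point of a point of a base change, for any scheme. -/
def fl' {X : Over (Spec (CommRingCat.of k))} {W : Over (Spec (CommRingCat.of Ω))} (x : W ⟶ Red.bc ψ X) :
    (Over.map ψ).obj W ⟶ X :=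
  ((Over.mapPullbackAdj ψ).homEquiv W X).symm x

theorem fl'_map {X Y : Over (Spec (CommRingCat.of k))} {W : Over (Spec (CommRingCat.of Ω))} (x : W ⟶ Red.bc ψ X)
    (f : X ⟶ Y) : fl' ψ (x ≫ (Over.pullback ψ).map f) = fl' ψ x ≫ f :=
  Adjunction.homEquiv_naturality_right_symm _ _ _

theorem fl'_act {H X : Over (Spec (CommRingCat.of k))} [GrpObj H] (a : AlgGrp.Action H X)
    {W : Over (Spec (CommRingCat.of Ω))} (h : W ⟶ Red.bc ψ H) (c : W ⟶ Red.bc ψ X) :
    fl' ψ (lift h c ≫ (OrbitTop19.mapAction (Over.pullback ψ) a).act) = lift (fl' ψ h) (fl' ψ c) ≫ a.act := by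
  show fl' ψ (lift h c ≫ Functor.LaxMonoidal.μ (Over.pullback ψ) H X ≫ (Over.pullback ψ).map a.act) = _
  rw [← Category.assoc, fl'_map]
  congr 1
  refine CartesianMonoidalCategory.hom_ext _ _ ?_ ?_
  · rw [lift_fst, ← fl'_map, Category.assoc, Functor.Monoidal.μ_fst, lift_fst]
  · rw [lift_snd, ← fl'_map, Category.assoc, Functor.Monoidal.μ_snd, lift_snd]

theorem fl'_injective {X : Over (Spec (CommRingCat.of k))} {W : Over (Spec (CommRingCat.of Ω))} :
    Function.Injective (fl' ψ (X := X) (W := W)) :=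
  ((Over.mapPullbackAdj ψ).homEquiv W X).symm.injective

end geometric

set_option maxHeartbeats 1000000 in
/-- With trivial stabiliser in `U`, the stabiliser in `G = U ⋊ T` is finite iff those in the conjugates of `T` are. -/
theorem finite_iff {k : Type u} [Field k] [IsAlgClosed k] [CharZero k]
    (G U T X : Over (Spec (CommRingCat.of k))) [GrpObj G] [GrpObj U] [GrpObj T]
    [IsAffine G.left] [LocallyOfFiniteType G.hom] [Smooth G.hom]
    (iU : U ⟶ G) [IsMonHom iU] [IsClosedImmersion iU.left]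
    [Smooth U.hom] [ConnectedSpace U.left] (hU : Red.HasNoSubtorus k U)
    (hT : Red.IsTorus T) (p : G ⟶ T) [IsMonHom p] (hker : AlgGrp.IsKernel iU p)
    (iT : T ⟶ G) [IsMonHom iT] (hsplit : iT ≫ p = 𝟙 T)
    [LocallyOfFiniteType X.hom] [QuasiCompact X.hom] [IsSeparated X.hom]
    (a : AlgGrp.Action G X)
    (Ω : Type u) [Field Ω] [IsAlgClosed Ω] (P : Over (Spec (CommRingCat.of k)))
    (e : P.left ≅ Spec (CommRingCat.of Ω)) (x : P ⟶ X)
    (hfree : IsIso (GLinSh.stabTo (a.restrict iU) x)) :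
    IsFinite (GLinSh.stabTo a x) ↔
      ∀ u : P ⟶ U, IsFinite (GLinSh.stabTo (a.restrict iT) (lift (u ≫ iU) x ≫ a.act)) := by
  obtain ⟨hTl, hTq, -, -⟩ := Semiab15.torus_props hT
  haveI := hTl; haveI := hTq
  haveI : QuasiCompact G.hom := inferInstance
  haveI : Mono iT := ⟨fun {W} f g h => by simpa [hsplit] using congrArg (· ≫ p) h⟩
  rw [NRGIT21.isFinite_stabTo_iff a e x]
  simp only [NRGIT21.isFinite_stabTo_iff (a.restrict iT) e]
  constructor
  · intro hfin u
    refine Finite.of_injective (fun t : StabPt (a.restrict iT) (lift (u ≫ iU) x ≫ a.act) =>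
      (⟨(u ≫ iU)⁻¹ * (t.1 ≫ iT) * (u ≫ iU), by
        have h := t.2
        rw [AlgGrp.Action.lift_restrict_act] at h
        rw [AlgGrpBasic19.act_mul, AlgGrpBasic19.act_mul, h, ← AlgGrpBasic19.act_mul, inv_mul_cancel,
          AlgGrpBasic19.act_one]⟩ : StabPt a x)) fun t t' h => ?_
    have h1 := congrArg Subtype.val h
    simp only [mul_left_inj, mul_right_inj] at h1
    exact Subtype.ext ((cancel_mono iT).1 h1)
  · intro hall
    by_contra hinf
    haveI : CharZero Ω := by
      obtain ⟨ρ, -⟩ := Spec.map_surjective (e.inv ≫ P.hom)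
      exact charZero_of_injective_ringHom (f := ρ.hom) ρ.hom.injective
    let ψ : Spec (CommRingCat.of Ω) ⟶ Spec (CommRingCat.of k) := e.inv ≫ P.hom
    let eP : (Over.map ψ).obj (𝟙_ (Over (Spec (CommRingCat.of Ω)))) ≅ P :=
      Over.isoMk e.symm (by simp [ψ])
    let Φ : ∀ W : Over (Spec (CommRingCat.of k)), (P ⟶ W) ≃ (𝟙_ (Over (Spec (CommRingCat.of Ω))) ⟶ Red.bc ψ W) :=
      fun W => (Iso.homFromEquiv eP.symm).trans ((Over.mapPullbackAdj ψ).homEquiv _ W)
    have hΦ : ∀ {W : Over (Spec (CommRingCat.of k))} (g : P ⟶ W), fl' ψ (Φ W g) = eP.hom ≫ g := fun g => by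
      simp [fl', Φ]
    let aΩ := OrbitTop19.mapAction (Over.pullback ψ) a
    have hact : ∀ (g : P ⟶ G) (y : P ⟶ X), lift (Φ G g) (Φ X y) ≫ aΩ.act = Φ X (lift g y ≫ a.act) := fun g y =>
      fl'_injective ψ (by rw [fl'_act, hΦ, hΦ, hΦ, comp_lift_assoc])
    haveI : IsAffine (Red.bc ψ G).left := BorelFix21.isAffine_bc ψ G
    haveI : Smooth (Red.bc ψ G).hom := BorelFix21.smooth_bc ψ G
    haveI : IsAffine U.left := isAffine_of_isAffineHom iU.left
    haveI : LocallyOfFiniteType U.hom := by rw [← Over.w iU]; infer_instance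
    haveI : ConnectedSpace G.left := by
      haveI := AbRigid.irreducibleSpace_of_isAlgClosed U
      obtain ⟨hTs, hTc⟩ := TorPts21.smooth_connected_of_isTorus hT
      haveI := hTs
      haveI := hTc
      haveI := AbRigid.geometricallyIrreducible_of_connected T
      haveI : IrreducibleSpace ↥(Limits.pullback U.hom T.hom) := inferInstance
      haveI : ConnectedSpace (U ⊗ T).left := inferInstanceAs (ConnectedSpace ↥(Limits.pullback U.hom T.hom))
      let m : U ⊗ T ⟶ G := (fst U T ≫ iU) * (snd U T ≫ iT)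
      have hk1 : ((𝟙 G) * ((𝟙 G) ≫ p ≫ iT)⁻¹) ≫ p = toUnit G ≫ η[T] := by
        rw [MonObj.mul_comp, GrpObj.inv_comp, Category.assoc, Category.assoc, hsplit, Category.comp_id,
          mul_inv_cancel, Hom.one_def]
      let sec : G ⟶ U ⊗ T := lift (hker.lift _ _ hk1) p
      have hsec : sec ≫ m = 𝟙 G := by
        rw [MonObj.comp_mul, lift_fst_assoc, lift_snd_assoc, hker.lift_fst, Category.id_comp, inv_mul_cancel_right]
      haveI : Surjective m.left := ⟨fun z => ⟨sec.left z, by
        rw [← Scheme.Hom.comp_apply, ← Over.comp_left, hsec]; rfl⟩⟩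
      exact m.left.surjective.connectedSpace m.left.continuous
    haveI : ConnectedSpace (Red.bc ψ G).left := BorelFix21.connectedSpace_bc ψ G
    haveI : IsAffine (Red.bc ψ U).left := BorelFix21.isAffine_bc ψ U
    haveI : Smooth (Red.bc ψ U).hom := BorelFix21.smooth_bc ψ U
    haveI : ConnectedSpace (Red.bc ψ U).left := BorelFix21.connectedSpace_bc ψ U
    haveI : IsClosedImmersion ((Over.pullback ψ).map iU).left := BorelFix21.isClosedImmersion_bc ψ iU
    haveI : IsSeparated (Red.bc ψ X).hom := inferInstanceAs (IsSeparated (pullback.snd X.hom ψ))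
    have hmap1 : ∀ {A B : Over (Spec (CommRingCat.of k))} [GrpObj A] [GrpObj B] (f : A ⟶ B), f = 1 →
        (Over.pullback ψ).map f = 1 := fun f hf => by rw [hf]; exact Functor.map_one _
    have hone : ∀ {A : Over (Spec (CommRingCat.of k))} [GrpObj A] (W : Over (Spec (CommRingCat.of Ω))),
        fl ψ A (1 : W ⟶ Red.bc ψ A) = 1 := fun {A} _ W => by
      have h := fl_mul ψ A (1 : W ⟶ Red.bc ψ A) 1
      rw [_root_.mul_one] at h
      exact left_eq_mul.1 h
    have hk' : iU ≫ p = 1 := by rw [hker.w, Hom.one_def]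
    have hsub : ∀ n : P ⟶ U, lift n x ≫ (a.restrict iU).act = x → n = 1 := by
      intro n hn
      have hsec : ∀ m : P ⟶ U, lift m x ≫ (a.restrict iU).act = x → ∃ z : P.left ⟶ GLinSh.stab (a.restrict iU) x,
          z ≫ GLinSh.stabTo (a.restrict iU) x = 𝟙 _ ∧
            z ≫ pullback.fst _ _ = (lift m (𝟙 P)).left := fun m hm => by
        have hl : lift m (𝟙 P) ≫ GIT.psi (a.restrict iU) x = lift x (𝟙 P) := by
          rw [GIT.psi, comp_lift, lift_whiskerLeft_assoc, Category.id_comp, hm, lift_snd]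
        exact ⟨pullback.lift (lift m (𝟙 P)).left (𝟙 _) ((congrArg CommaMorphism.left hl).trans (Category.id_comp _).symm),
          pullback.lift_snd _ _ _, pullback.lift_fst _ _ _⟩
      obtain ⟨z, hz, hz'⟩ := hsec n hn
      obtain ⟨z₁, hz₁, hz₁'⟩ := hsec 1 (by
        rw [AlgGrp.Action.lift_restrict_act, MonObj.one_comp, AlgGrpBasic19.act_one])
      have hzz : z = z₁ := by
        haveI := hfree
        rw [← cancel_mono (GLinSh.stabTo (a.restrict iU) x), hz, hz₁]
      have h2 : lift n (𝟙 P) = lift 1 (𝟙 P) := Over.OverMorphism.ext (by rw [← hz', hzz, hz₁'])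
      simpa using congrArg (· ≫ fst U P) h2
    obtain ⟨u, hu⟩ := exists_infinite_torus_stab ((Over.pullback ψ).map iU)
      (UnipBC21.hasNoSubtorus_bc ψ U hU) ((Over.pullback ψ).map p)
      (by rw [← Functor.map_comp]; exact hmap1 _ hk')
      (fun W g hg => by
        have h1 : fl ψ G g ≫ p = 1 := by rw [← fl_comp_map ψ, hg, hone]
        obtain ⟨n, hn⟩ : ∃ n, n ≫ iU = fl ψ G g :=
          ⟨hker.lift (fl ψ G g) (toUnit _) (by rw [h1, Hom.one_def]), hker.lift_fst _ _ _⟩
        obtain ⟨n', rfl⟩ := fl_surjective ψ U n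
        exact ⟨n', fl_injective ψ G (by rw [fl_comp_map, hn])⟩)
      (TorPts21.isTorus_bc ψ hT) ((Over.pullback ψ).map iT)
      (by rw [← Functor.map_comp, hsplit]; exact (Over.pullback ψ).map_id T) aΩ (Φ X x)
      (fun n hn => by
        obtain ⟨m, rfl⟩ := (Φ U).surjective n
        have e1 : Φ U m ≫ (Over.pullback ψ).map iU = Φ G (m ≫ iU) :=
          fl'_injective ψ (by rw [fl'_map, hΦ, hΦ, Category.assoc])
        rw [e1, hact] at hn
        have hm : m = 1 := hsub m (by rw [AlgGrp.Action.lift_restrict_act]; exact (Φ X).injective hn)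
        refine fl_injective ψ U ?_
        show fl' ψ (Φ U m) = _
        rw [hΦ, hm, MonObj.comp_one, hone])
      (fun hf => hinf (by
        refine Finite.of_injective (fun g : StabPt a x => (⟨Φ G g.1, by rw [hact, g.2]⟩ : StabPt aΩ (Φ X x)))
          fun g g' h => ?_
        exact Subtype.ext ((Φ G).injective (congrArg Subtype.val h))))
    obtain ⟨m, rfl⟩ := (Φ U).surjective u
    refine hu ?_
    have e1 : Φ U m ≫ (Over.pullback ψ).map iU = Φ G (m ≫ iU) :=
      fl'_injective ψ (by rw [fl'_map, hΦ, hΦ, Category.assoc])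
    rw [e1, hact]
    haveI := hall m
    refine Finite.of_surjective
      (fun t : StabPt (a.restrict iT) (lift (m ≫ iU) x ≫ a.act) => (⟨Φ T t.1, by
        rw [AlgGrp.Action.lift_restrict_act]
        have h := t.2
        rw [AlgGrp.Action.lift_restrict_act] at h
        have e2 : Φ T t.1 ≫ (Over.pullback ψ).map iT = Φ G (t.1 ≫ iT) :=
          fl'_injective ψ (by rw [fl'_map, hΦ, hΦ, Category.assoc])
        rw [e2, hact, h]⟩ : StabPt _ _)) fun t => ?_
    obtain ⟨t', ht'⟩ := (Φ T).surjective t.1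
    refine ⟨⟨t', ?_⟩, Subtype.ext ht'⟩
    have h := t.2
    rw [AlgGrp.Action.lift_restrict_act, ← ht'] at h
    have e2 : Φ T t' ≫ (Over.pullback ψ).map iT = Φ G (t' ≫ iT) :=
      fl'_injective ψ (by rw [fl'_map, hΦ, hΦ, Category.assoc])
    rw [e2, hact] at h
    rw [AlgGrp.Action.lift_restrict_act]
    exact (Φ X).injective h

end Groth.Agent.SemiStab15
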